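import Groth.Agent.Vanish.K909.AltInterface
import Groth.Agent.S0025
import Groth.Agent.CohqB.ProjBC
import Groth.Agent.Ega3B.ProjProper
import Groth.Agent.Vancyc.H175.BirIso
import Groth.Agent.CycB.ImageInt
import Groth.Agent.Pic13.H967.CurveMeet
import Groth.Agent.Props.K592.AmpleProd
import Groth.Agent.CalgB.AmpleBase
import Groth.Agent.VarietyA.AmpleField
import Groth.Agent.CalgB.ProjField

/-!
# Chow's lemma and smooth projective alterations over a quasi-projective base

`exists_model`: an integral scheme `X`, separated of finite type over a field, has a proper birational `X' ⟶ X` with `X'`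
integral and immersed in some `P^n_k`.
`exists_closure`: compactification of `X' ⟶ Z ⟶ Zb`.
`chowalt`: for `f : X ⟶ Z` proper surjective over a quasi-projective integral `Z`, there are `Zb ⊇ Z` projective, `Y` a
projective manifold with `dim Y = dim X`, `g : Y ⟶ Zb` surjective and `ρ : g⁻¹ Z ⟶ X` proper surjective over `Z`.
-/

set_option autoImplicit false
universe u
open CategoryTheory CategoryTheory.Limits AlgebraicGeometry TopologicalSpace

namespace Groth.Agent.Vanish.K415.ChowAlt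

theorem isProper_toSpec (n : ℕ) (k : Type u) [Field k] : IsProper (CohB1.ProjSpace.toSpec n k) :=
  Groth.Agent.Ega3B.ProjProper.isProper_toSpec n k

/-- **(Chow)** a quasi-projective integral birational model. -/
theorem exists_model (k : Type u) [Field k] {X : Scheme.{u}} [IsIntegral X]
    (a : X ⟶ Spec (CommRingCat.of k)) [IsSeparated a] [LocallyOfFiniteType a] [QuasiCompact a] :
    ∃ (n : ℕ) (X' : Scheme.{u}) (π : X' ⟶ X) (c : X' ⟶ CohB1.ProjSpace n k) (U : X.Opens),
      IsIntegral X' ∧ IsImmersion c ∧ QuasiCompact c ∧ c ≫ CohB1.ProjSpace.toSpec n k = π ≫ a ∧ IsProper π ∧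
        Surjective π ∧ (U : Set X).Nonempty ∧ IsIso (π ∣_ U) := by
  obtain ⟨n, X', π, j, hj, hjf, hπ, -, U, hUd, hU⟩ := S0025.result a
  have hUne : (U : Set X).Nonempty := hUd.nonempty
  have hne : Nonempty U := hUne.to_subtype
  have hZ : IsLocallyNoetherian X := LocallyOfFiniteType.isLocallyNoetherian a
  have hZc : CompactSpace X := QuasiCompact.compactSpace_of_compactSpace a
  have hZn : IsNoetherian X := {}
  have hUc : CompactSpace U.toScheme :=
    isCompact_iff_compactSpace.mp (NoetherianSpace.isCompact (U : Set X))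
  have hUn : IsNoetherian U.toScheme := {}
  let s : U.toScheme ⟶ X' := inv (π ∣_ U) ≫ (π ⁻¹ᵁ U).ι
  have hs : s ≫ π = U.ι := by
    simp only [s, Category.assoc, ← morphismRestrict_ι, IsIso.inv_hom_id_assoc]
  have hW : IsIntegral s.image := CycB.ImageInt.isIntegral_image s
  have hcomp : s.toImage ≫ s.imageι ≫ π = U.ι := by
    rw [← Category.assoc, Scheme.Hom.toImage_imageι, hs]
  have ho : IsOpenImmersion (s.toImage ≫ s.imageι ≫ π) := by rw [hcomp]; infer_instance
  have hp := isProper_toSpec n k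
  have hc : (s.imageι ≫ j ≫ (CohqB.ProjBC.projSpaceOverIso n k).hom) ≫ CohB1.ProjSpace.toSpec n k =
      (s.imageι ≫ π) ≫ a := by
    rw [Category.assoc, Category.assoc, CohqB.ProjBC.projSpaceOverIso_hom_toSpec, hjf, Category.assoc]
  refine ⟨n, s.image, s.imageι ≫ π, s.imageι ≫ j ≫ (CohqB.ProjBC.projSpaceOverIso n k).hom, U, hW,
    inferInstance, ?_, hc, inferInstance, ?_, hUne, ?_⟩
  · have h1 : QuasiCompact ((s.imageι ≫ j ≫ (CohqB.ProjBC.projSpaceOverIso n k).hom) ≫
        CohB1.ProjSpace.toSpec n k) := by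
      rw [hc]; infer_instance
    exact QuasiCompact.of_comp _ (CohB1.ProjSpace.toSpec n k)
  · refine ⟨fun x => ?_⟩
    have hcl : IsClosed (Set.range (s.imageι ≫ π)) := (s.imageι ≫ π).isClosedMap.isClosed_range
    have hsub : (U : Set X) ⊆ Set.range (s.imageι ≫ π) := by
      intro y hy
      refine ⟨s.toImage ⟨y, hy⟩, ?_⟩
      have := congrArg (fun (φ : U.toScheme ⟶ X) => φ ⟨y, hy⟩) hcomp
      exact this
    have h := (hUd.mono hsub) x
    rwa [hcl.closure_eq] at h
  · refine Vancyc.H175.BirIso.isIso_restrict s.toImage (s.imageι ≫ π) ?_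
    apply TopologicalSpace.Opens.ext
    rw [Scheme.Hom.coe_opensRange, hcomp, Scheme.Opens.range_ι]

/-- Compactification of a quasi-projective `X'`, proper over `Z`, over a projective compactification `Zb` of `Z`. -/
theorem exists_closure (k : Type u) [Field k] {X' Z Zb : Scheme.{u}} [IsIntegral X'] (n : ℕ)
    (c : X' ⟶ CohB1.ProjSpace n k) [IsImmersion c]
    (zb : Zb ⟶ Spec (CommRingCat.of k)) [IsProper zb] (HZ : Zb.Modules) (hHZ : CohB1.IsAmple HZ)
    (j : Z ⟶ Zb) [IsOpenImmersion j] (p : X' ⟶ Z) [IsProper p]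
    (hcp : c ≫ CohB1.ProjSpace.toSpec n k = (p ≫ j) ≫ zb) :
    ∃ (Xb : Scheme.{u}) (h : Xb ⟶ Zb) (u : X' ⟶ Xb) (_ : IsOpenImmersion u) (A : Xb.Modules),
      IsIntegral Xb ∧ IsProper h ∧ CohB1.IsAmple A ∧ u ≫ h = p ≫ j ∧ u.opensRange = h ⁻¹ᵁ j.opensRange := by
  have hps := isProper_toSpec n k
  have hZb : IsLocallyNoetherian Zb := LocallyOfFiniteType.isLocallyNoetherian zb
  have hjq : QuasiCompact j := inferInstance
  let e : X' ⟶ pullback (CohB1.ProjSpace.toSpec n k) zb := pullback.lift c (p ≫ j) hcp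
  have he1 : e ≫ pullback.fst (CohB1.ProjSpace.toSpec n k) zb = c := pullback.lift_fst _ _ _
  have he2 : e ≫ pullback.snd (CohB1.ProjSpace.toSpec n k) zb = p ≫ j := pullback.lift_snd _ _ _
  have hei : IsImmersion e := by
    have : IsImmersion (e ≫ pullback.fst (CohB1.ProjSpace.toSpec n k) zb) := by rw [he1]; infer_instance
    exact IsImmersion.of_comp e (pullback.fst (CohB1.ProjSpace.toSpec n k) zb)
  have heq : QuasiCompact e := by
    have : QuasiCompact (e ≫ pullback.snd (CohB1.ProjSpace.toSpec n k) zb) := by rw [he2]; infer_instance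
    exact QuasiCompact.of_comp e (pullback.snd (CohB1.ProjSpace.toSpec n k) zb)
  have hXb : IsIntegral e.image := CycB.ImageInt.isIntegral_image e
  have hA := Groth.Agent.CalgB.AmpleBase.isAmple_pullback_of_isImmersion e.imageι
    (K592.AmpleProd.isAmple_fst_snd (CohB1.ProjSpace.toSpec n k) zb _ _
      (VarietyA.AmpleField.isAmple_twistProjSpace n k) hHZ)
  let h : e.image ⟶ Zb := e.imageι ≫ pullback.snd (CohB1.ProjSpace.toSpec n k) zb
  have huh : e.toImage ≫ h = p ≫ j := by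
    rw [← he2]
    simp only [h]
    rw [← Category.assoc, Scheme.Hom.toImage_imageι]
  refine ⟨e.image, h, e.toImage, inferInstance, _, hXb, inferInstance, hA, huh, ?_⟩
  -- the range
  set W : e.image.Opens := h ⁻¹ᵁ j.opensRange with hW
  have hle : Set.range e.toImage ⊆ (W : Set e.image) := by
    rintro _ ⟨x, rfl⟩
    refine ⟨p x, ?_⟩
    have := congrArg (fun (φ : X' ⟶ Zb) => φ x) huh
    exact this.symm
  have hle' : Set.range e.toImage ⊆ Set.range W.ι := by rwa [Scheme.Opens.range_ι]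
  let u' : X' ⟶ W.toScheme := IsOpenImmersion.lift W.ι e.toImage hle'
  have hu' : u' ≫ W.ι = e.toImage := IsOpenImmersion.lift_fac _ _ _
  have hq0 : Set.range (W.ι ≫ h) ⊆ Set.range j := by
    rintro _ ⟨w, rfl⟩
    exact w.2
  let q : W.toScheme ⟶ Z := IsOpenImmersion.lift j (W.ι ≫ h) hq0
  have hq : q ≫ j = W.ι ≫ h := IsOpenImmersion.lift_fac _ _ _
  have hqs : IsSeparated q := by
    have : IsSeparated (q ≫ j) := by rw [hq]; infer_instance
    exact IsSeparated.of_comp q j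
  have huq : u' ≫ q = p := by
    rw [← cancel_mono j, Category.assoc, hq, ← Category.assoc, hu', huh]
  have hu'p : IsProper u' := by
    have : IsProper (u' ≫ q) := by rw [huq]; infer_instance
    exact IsProper.of_comp u' q
  have hu'o : IsOpenImmersion u' := by
    have : IsOpenImmersion (u' ≫ W.ι) := by rw [hu']; infer_instance
    exact IsOpenImmersion.of_comp u' W.ι
  have hclopen : IsClopen (Set.range u') :=
    ⟨u'.isClosedMap.isClosed_range, u'.isOpenEmbedding.isOpen_range⟩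
  have hne : (Set.range u').Nonempty := Set.range_nonempty _
  have hWne : Nonempty W.toScheme := ⟨hne.some⟩
  have hWi : IsIntegral W.toScheme := isIntegral_of_isOpenImmersion W.ι
  have huniv : Set.range u' = Set.univ := hclopen.eq_univ hne
  apply TopologicalSpace.Opens.ext
  rw [Scheme.Hom.coe_opensRange]
  refine Set.Subset.antisymm hle fun w hw => ?_
  obtain ⟨x, hx⟩ : (⟨w, hw⟩ : W.toScheme) ∈ Set.range u' := by rw [huniv]; trivial
  refine ⟨x, ?_⟩
  rw [← hu', Scheme.Hom.comp_apply, hx]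
  rfl

/-- The dimension does not change under open immersions of integral schemes. -/
theorem dim_of_openImmersion (k : Type u) [Field k] {U X : Scheme.{u}} [IsIntegral X] [Nonempty U] (a : X ⟶ Spec (CommRingCat.of k))
    [LocallyOfFiniteType a] (i : U ⟶ X) [IsOpenImmersion i] : topologicalKrullDim U = topologicalKrullDim X := by
  have hg : genericPoint X ∈ i.opensRange :=
    ((genericPoint_spec X).mem_open_set_iff i.opensRange.isOpen).mpr (by
      simpa using Set.range_nonempty (i : U → X))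
  rw [← Groth.Agent.Pic13.H967.CurveMeet.dim_open k a i.opensRange hg]
  exact IsHomeomorph.topologicalKrullDim_eq _ i.isoOpensRange.hom.homeomorph.isHomeomorph

/-- The dimension does not change under birational modifications. -/
theorem dim_of_birational (k : Type u) [Field k] {X' X : Scheme.{u}} [IsIntegral X] [IsIntegral X'] (a : X ⟶ Spec (CommRingCat.of k))
    [LocallyOfFiniteType a] (π : X' ⟶ X) [LocallyOfFiniteType π] (U : X.Opens) (hU : (U : Set X).Nonempty)
    (hπ : IsIso (π ∣_ U)) : topologicalKrullDim X' = topologicalKrullDim X := by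
  have : Nonempty U.toScheme := hU.to_subtype
  have h2 : Nonempty (π ⁻¹ᵁ U).toScheme := ⟨(inv (π ∣_ U)) (Classical.arbitrary U.toScheme)⟩
  rw [← dim_of_openImmersion k a U.ι, ← dim_of_openImmersion k (π ≫ a) (π ⁻¹ᵁ U).ι]
  exact IsHomeomorph.topologicalKrullDim_eq _ (π ∣_ U).homeomorph.isHomeomorph

/-- **(CHOWALT)**, for a given projective compactification `j : Z ⟶ Zb`, with a strict normal crossing divisor
containing the preimage of a proper closed subset `T` of `X`. -/
theorem chowalt_of {k : Type u} [Field k] (hAlt : K909.AltInterface.Alt k) {X Z Zb : Scheme.{u}} [IsIntegral X]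
    [IsIntegral Zb] (zb : Zb ⟶ Spec (CommRingCat.of k)) [IsProper zb] (HZ : Zb.Modules) (hHZ : CohB1.IsAmple HZ)
    (j : Z ⟶ Zb) [IsOpenImmersion j] (f : X ⟶ Z) [IsProper f] [Surjective f]
    (T : Set X) (hT : IsClosed T) (hT' : T ≠ Set.univ) :
    ∃ (Y : Scheme.{u}) (g : Y ⟶ Zb) (ρ : (g ⁻¹ᵁ j.opensRange).toScheme ⟶ X) (A : Y.Modules) (r : ℕ)
      (D : Fin r → Y.IdealSheafData),
      IsIntegral Y ∧ IsProper g ∧ Smooth (g ≫ zb) ∧ CohB1.IsAmple A ∧ Surjective g ∧
      topologicalKrullDim Y = topologicalKrullDim X ∧ IsProper ρ ∧ Surjective ρ ∧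
      ρ ≫ f ≫ j = (g ⁻¹ᵁ j.opensRange).ι ≫ g ∧
      LogNCD.IsNCD D (g ≫ zb) ∧ (∀ i, IsIntegral (D i).subscheme) ∧
      ∀ y : (g ⁻¹ᵁ j.opensRange).toScheme, ρ y ∈ T → ∃ i, (g ⁻¹ᵁ j.opensRange).ι y ∈ (D i).support := by
  have hZb : IsLocallyNoetherian Zb := LocallyOfFiniteType.isLocallyNoetherian zb
  have hjq : QuasiCompact j := inferInstance
  obtain ⟨n, X', π, c, U, hX', hc, hcq, hca, hπ, hπs, hU, hUi⟩ := exists_model k ((f ≫ j) ≫ zb)
  obtain ⟨Xb, h, u, hu, A, hXb, hh, hA, huh, hur⟩ := exists_closure k n c zb HZ hHZ j (π ≫ f)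
    (by rw [hca]; simp only [Category.assoc])
  have hTb : closure (u '' (π ⁻¹' T)) ≠ Set.univ := by
    intro hcl
    apply hT'
    rw [Set.eq_univ_iff_forall]
    intro x
    obtain ⟨x', rfl⟩ := π.surjective x
    have h1 : u x' ∈ closure (u '' (π ⁻¹' T)) := by rw [hcl]; trivial
    have h2 : closure (u '' (π ⁻¹' T)) ∩ Set.range u ⊆ u '' (π ⁻¹' T) := by
      have h3 := u.isOpenEmbedding.isInducing.closure_eq_preimage_closure_image (π ⁻¹' T)
      rw [(hT.preimage π.continuous).closure_eq] at h3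
      rintro _ ⟨hy, ⟨y, rfl⟩⟩
      refine ⟨y, ?_, rfl⟩
      rw [h3]
      exact hy
    obtain ⟨y, hy, hyx⟩ := h2 ⟨h1, ⟨x', rfl⟩⟩
    rw [← u.isOpenEmbedding.injective hyx]
    exact hy
  obtain ⟨Y, q, B, r, D, hY, hYs, hq, hqs, hdim, hB, hD, hDi, hDT⟩ :=
    hAlt Xb (h ≫ zb) A hA (closure (u '' (π ⁻¹' T))) isClosed_closure hTb
  have hrange : Set.range (((q ≫ h) ⁻¹ᵁ j.opensRange).ι ≫ q) ⊆ Set.range u := by
    rintro _ ⟨y, rfl⟩
    have h1 : q (((q ≫ h) ⁻¹ᵁ j.opensRange).ι y) ∈ h ⁻¹ᵁ j.opensRange := y.2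
    rw [← hur] at h1
    exact h1
  let ρ₀ : ((q ≫ h) ⁻¹ᵁ j.opensRange).toScheme ⟶ X' := IsOpenImmersion.lift u (((q ≫ h) ⁻¹ᵁ j.opensRange).ι ≫ q) hrange
  have hρ₀ : ρ₀ ≫ u = ((q ≫ h) ⁻¹ᵁ j.opensRange).ι ≫ q := IsOpenImmersion.lift_fac _ _ _
  have hpb : IsPullback ρ₀ (((q ≫ h) ⁻¹ᵁ j.opensRange).ι) u q := by
    refine IsOpenImmersion.isPullback _ _ _ _ hρ₀.symm ?_
    rw [Scheme.Opens.opensRange_ι, hur]
    rfl
  have hρp : IsProper ρ₀ := MorphismProperty.of_isPullback hpb.flip inferInstance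
  have hρs : Surjective ρ₀ := MorphismProperty.of_isPullback hpb.flip inferInstance
  have hρ : (ρ₀ ≫ π) ≫ f ≫ j = ((q ≫ h) ⁻¹ᵁ j.opensRange).ι ≫ q ≫ h := by
    have h1 : (π ≫ f) ≫ j = u ≫ h := huh.symm
    calc (ρ₀ ≫ π) ≫ f ≫ j = ρ₀ ≫ (π ≫ f) ≫ j := by simp only [Category.assoc]
      _ = ρ₀ ≫ u ≫ h := by rw [h1]
      _ = _ := by rw [← Category.assoc, hρ₀, Category.assoc]
  have hX'ne : Nonempty X' := inferInstance
  have hsurj : Surjective (q ≫ h) := by
    have hhs : Surjective h := by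
      refine ⟨fun z => ?_⟩
      have hcl : IsClosed (Set.range h) := h.isClosedMap.isClosed_range
      have hsub : (j.opensRange : Set Zb) ⊆ Set.range h := by
        rintro _ ⟨y, rfl⟩
        obtain ⟨x, rfl⟩ := f.surjective y
        obtain ⟨x', rfl⟩ := π.surjective x
        refine ⟨u x', ?_⟩
        have := congrArg (fun (φ : X' ⟶ Zb) => φ x') huh
        exact this
      have hne : (j.opensRange : Set Zb).Nonempty := ⟨_, ⟨f (π (Classical.arbitrary X')), rfl⟩⟩
      have hd : Dense (j.opensRange : Set Zb) := j.opensRange.isOpen.dense hne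
      have h := (hd.mono hsub) z
      rwa [hcl.closure_eq] at h
    infer_instance
  refine ⟨Y, q ≫ h, ρ₀ ≫ π, B, r, D, hY, inferInstance, ?_, hB, hsurj, ?_, inferInstance, inferInstance, hρ, ?_, hDi, ?_⟩
  · rwa [Category.assoc]
  · rw [hdim, ← dim_of_openImmersion k (h ≫ zb) u]
    exact dim_of_birational k ((f ≫ j) ≫ zb) π U hU hUi
  · rwa [Category.assoc]
  · intro y hy
    apply hDT
    have h1 := congrArg (fun (φ : ((q ≫ h) ⁻¹ᵁ j.opensRange).toScheme ⟶ Xb) => φ y) hρ₀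
    have h2 : q (((q ≫ h) ⁻¹ᵁ j.opensRange).ι y) = u (ρ₀ y) := h1.symm
    rw [h2]
    exact subset_closure ⟨ρ₀ y, hy, rfl⟩

/-- A quasi-projective integral scheme is an open subscheme of a projective integral scheme. -/
theorem exists_compactification (k : Type u) [Field k] {Z : Scheme.{u}} [IsIntegral Z]
    (z : Z ⟶ Spec (CommRingCat.of k)) [LocallyOfFiniteType z] [QuasiCompact z]
    (hZ : ∃ N : Z.Modules, CohB1.IsAmple N) :
    ∃ (Zb : Scheme.{u}) (zb : Zb ⟶ Spec (CommRingCat.of k)) (j : Z ⟶ Zb) (H : Zb.Modules),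
      IsIntegral Zb ∧ IsProper zb ∧ CohB1.IsAmple H ∧ IsOpenImmersion j ∧ j ≫ zb = z := by
  obtain ⟨d, c, hc, hcq, hcz⟩ := Groth.Agent.CalgB.ProjField.exists_immersion_projSpace z hZ
  have hps := isProper_toSpec d k
  refine ⟨c.image, c.imageι ≫ CohB1.ProjSpace.toSpec d k, c.toImage, _, CycB.ImageInt.isIntegral_image c, inferInstance,
    Groth.Agent.CalgB.AmpleBase.isAmple_pullback_of_isImmersion c.imageι
      (VarietyA.AmpleField.isAmple_twistProjSpace d k), inferInstance, ?_⟩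
  rw [← Category.assoc, Scheme.Hom.toImage_imageι, hcz]

/-- **(CHOWALT)** for `f : X ⟶ Z` proper surjective over a quasi-projective integral `Z`, there are `Zb ⊇ Z` projective, `Y` a
projective manifold with `dim Y = dim X`, `g : Y ⟶ Zb` surjective and `ρ : g⁻¹ Z ⟶ X` proper surjective over `Z`. -/
theorem chowalt {k : Type u} [Field k] (hAlt : K909.AltInterface.Alt k) {X Z : Scheme.{u}} [IsIntegral X] [IsIntegral Z]
    (z : Z ⟶ Spec (CommRingCat.of k)) [LocallyOfFiniteType z] [QuasiCompact z]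
    (hZ : ∃ N : Z.Modules, CohB1.IsAmple N) (f : X ⟶ Z) [IsProper f] [Surjective f] :
    ∃ (Zb : Scheme.{u}) (zb : Zb ⟶ Spec (CommRingCat.of k)) (j : Z ⟶ Zb) (H : Zb.Modules) (_ : IsOpenImmersion j)
      (Y : Scheme.{u}) (g : Y ⟶ Zb) (ρ : (g ⁻¹ᵁ j.opensRange).toScheme ⟶ X) (A : Y.Modules),
      IsIntegral Zb ∧ IsProper zb ∧ CohB1.IsAmple H ∧ j ≫ zb = z ∧
      IsIntegral Y ∧ IsProper g ∧ Smooth (g ≫ zb) ∧ CohB1.IsAmple A ∧ Surjective g ∧
      topologicalKrullDim Y = topologicalKrullDim X ∧ IsProper ρ ∧ Surjective ρ ∧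
      ρ ≫ f ≫ j = (g ⁻¹ᵁ j.opensRange).ι ≫ g := by
  obtain ⟨Zb, zb, j, H, hZb, hzb, hH, hj, hjz⟩ := exists_compactification k z hZ
  obtain ⟨Y, g, ρ, A, r, D, h1, h2, h3, h4, h5, h6, h7, h8, h9, -, -, -⟩ :=
    chowalt_of hAlt zb H hH j f ∅ isClosed_empty Set.empty_ne_univ
  exact ⟨Zb, zb, j, H, hj, Y, g, ρ, A, hZb, hzb, hH, hjz, h1, h2, h3, h4, h5, h6, h7, h8, h9⟩

/-- (CHOWALT) over an affine base. -/
theorem chowalt_affine {k : Type u} [Field k] (hAlt : K909.AltInterface.Alt k) {X Z : Scheme.{u}} [IsIntegral X]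
    [IsIntegral Z] [IsAffine Z] (z : Z ⟶ Spec (CommRingCat.of k)) [LocallyOfFiniteType z]
    (f : X ⟶ Z) [IsProper f] [Surjective f] :
    ∃ (Zb : Scheme.{u}) (zb : Zb ⟶ Spec (CommRingCat.of k)) (j : Z ⟶ Zb) (H : Zb.Modules) (_ : IsOpenImmersion j)
      (Y : Scheme.{u}) (g : Y ⟶ Zb) (ρ : (g ⁻¹ᵁ j.opensRange).toScheme ⟶ X) (A : Y.Modules),
      IsIntegral Zb ∧ IsProper zb ∧ CohB1.IsAmple H ∧ j ≫ zb = z ∧
      IsIntegral Y ∧ IsProper g ∧ Smooth (g ≫ zb) ∧ CohB1.IsAmple A ∧ Surjective g ∧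
      topologicalKrullDim Y = topologicalKrullDim X ∧ IsProper ρ ∧ Surjective ρ ∧
      ρ ≫ f ≫ j = (g ⁻¹ᵁ j.opensRange).ι ≫ g :=
  chowalt hAlt z (Groth.Agent.CalgB.ProjField.exists_isAmple_of_isAffine Z) f

end Groth.Agent.Vanish.K415.ChowAlt
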